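/-
Generated orbit certificate for the orbits of a stabiliser on objects of another kind.
-/
import Cfsg.Agent.Lib.Golay.StabCert

set_option autoImplicit false
set_option maxRecDepth 1000000

namespace Cfsg.Agent.Lib.Golay.CrossData.OctadTrioPair

open Cfsg.Agent.Lib.Orbit

def tree0_0 : OrbTree (List ℕ) :=
  [(0, 0, [5279, 6842656, 9929280]),
   (0, 0, [5279, 8077824, 8694112]),
   (0, 1, [5279, 4645632, 12126304]),
   (0, 0, [5279, 5621792, 11150144]),
   (0, 0, [5279, 4038912, 12733024]),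
   (2, 1, [5279, 5939296, 10832640]),
   (3, 1, [5279, 6750560, 10021376]),
   (0, 0, [5279, 7612992, 9158944]),
   (0, 0, [5279, 1852256, 14919680]),
   (0, 1, [5279, 3050016, 13721920]),
   (5, 1, [5279, 2220640, 14551296]),
   (0, 1, [5279, 3328320, 13443616]),
   (0, 0, [5279, 4819776, 11952160])]

/-- The root of orbit 0. -/
def root0 : List ℕ := [5279, 1256224, 15515712]

/-- The tree of orbit 0. -/
def tree0 : OrbTree (List ℕ) :=
  List.flatten [tree0_0]

/-- Generators fixing the octad and the first trio. -/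
def gens : List (List ℕ) :=
  [[10, 2, 3, 1, 4, 16, 5, 7, 17, 6, 12, 20, 0, 9, 21, 13, 15, 23, 8, 22, 18, 14, 19, 11],
   [7, 3, 4, 1, 0, 15, 17, 10, 9, 21, 12, 13, 2, 14, 11, 8, 6, 16, 18, 19, 5, 20, 23, 22]]

/-- All orbits. -/
def orbits : List ((List ℕ) × OrbTree (List ℕ)) :=
  [(root0, tree0)]

end Cfsg.Agent.Lib.Golay.CrossData.OctadTrioPair
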